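import Cfsg.Agent.Lib.Helper9.TCData.Fi23C4.Main

set_option autoImplicit false
set_option maxRecDepth 1000000

namespace Cfsg.Agent.Helper9.TCData.Fi23C4
open Cfsg.Agent.Helper9.TC2

theorem e4_0 : allRange 0 3110 (fun u => chkE tab 4 u) = true := by decide +kernel

theorem e4_1 : allRange 3110 1930 (fun u => chkE tab 4 u) = true := by decide +kernel

theorem e5_0 : allRange 0 3017 (fun u => chkE tab 5 u) = true := by decide +kernel

theorem e5_1 : allRange 3017 2023 (fun u => chkE tab 5 u) = true := by decide +kernel


end Cfsg.Agent.Helper9.TCData.Fi23C4
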