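import Cfsg.Agent.Lib.Helper9.TCData.Fi23C4.Main

set_option autoImplicit false
set_option maxRecDepth 1000000

namespace Cfsg.Agent.Helper9.TCData.Fi23C4
open Cfsg.Agent.Helper9.TC2

theorem f_0 : allRange 0 400 (fun u => chkFin tab u) = true := by decide +kernel

theorem f_1 : allRange 400 400 (fun u => chkFin tab u) = true := by decide +kernel

theorem f_2 : allRange 800 400 (fun u => chkFin tab u) = true := by decide +kernel

theorem f_3 : allRange 1200 400 (fun u => chkFin tab u) = true := by decide +kernel

theorem f_4 : allRange 1600 400 (fun u => chkFin tab u) = true := by decide +kernel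

theorem f_5 : allRange 2000 400 (fun u => chkFin tab u) = true := by decide +kernel

theorem f_6 : allRange 2400 400 (fun u => chkFin tab u) = true := by decide +kernel

theorem f_7 : allRange 2800 400 (fun u => chkFin tab u) = true := by decide +kernel


end Cfsg.Agent.Helper9.TCData.Fi23C4
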