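import Cfsg.Agent.Lib.Helper9.TC2Cox
import Cfsg.Agent.Lib.Helper9.TC2Aux
import Cfsg.Agent.Lib.Helper9.TC2BSGS
import Cfsg.Agent.Lib.Helper9.TC2Pack
import Cfsg.Agent.Lib.Helper9.TCData.Fi23C4.P0

set_option autoImplicit false
set_option maxRecDepth 100000

namespace Cfsg.Agent.Helper9.TCData.Fi23C4
open Cfsg.Agent.Helper9.TC2
/-- The rotated relators. -/
noncomputable def rotT : WT := (WT.node 12 (WT.node 6 (WT.node 3 (WT.node 1 (WT.leaf [0, 2, 0, 2]) (WT.node 2 (WT.leaf [0, 3, 0, 3]) (WT.leaf [0, 4, 0, 4]))) (WT.node 4 (WT.leaf [0, 5, 0, 5]) (WT.node 5 (WT.leaf [1, 3, 1, 3]) (WT.leaf [1, 4, 1, 4])))) (WT.node 9 (WT.node 7 (WT.leaf [1, 5, 1, 5]) (WT.node 8 (WT.leaf [1, 0, 1, 0, 1, 0]) (WT.leaf [2, 4, 2, 4]))) (WT.node 10 (WT.leaf [2, 5, 2, 5]) (WT.node 11 (WT.leaf [2, 1, 2, 1, 2, 1]) (WT.leaf [2, 0, 2, 0]))))) (WT.node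 18 (WT.node 15 (WT.node 13 (WT.leaf [3, 5, 3, 5]) (WT.node 14 (WT.leaf [3, 2, 3, 2, 3, 2]) (WT.leaf [3, 1, 3, 1]))) (WT.node 16 (WT.leaf [3, 0, 3, 0]) (WT.node 17 (WT.leaf [4, 3, 4, 3, 4, 3]) (WT.leaf [4, 2, 4, 2])))) (WT.node 21 (WT.node 19 (WT.leaf [4, 1, 4, 1]) (WT.node 20 (WT.leaf [4, 0, 4, 0]) (WT.leaf [5, 4, 5, 4, 5, 4]))) (WT.node 23 (WT.node 22 (WT.leaf [5, 3, 5, 3]) (WT.leaf [5, 2, 5, 2])) (WT.node 24 (WT.leaf [5, 1, 5, 1]) (WT.leaf [5, 0, 5, 0]))))))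

/-- The sources of the rotated relators: relator and rotation. -/
def rotSrc : List (ℕ × ℕ) := [(2, 2), (3, 2), (4, 2), (5, 2), (9, 2), (10, 2), (11, 2), (1, 1), (16, 2), (17, 2), (8, 1), (2, 1), (23, 2), (15, 1), (9, 1), (3, 1), (22, 1), (16, 1), (10, 1), (4, 1), (29, 1), (23, 1), (17, 1), (11, 1), (5, 1)]

/-- The relators, as words of columns. -/
def relWords : List (List ℕ) := [[0, 0], [0, 1, 0, 1, 0, 1], [0, 2, 0, 2], [0, 3, 0, 3], [0, 4, 0, 4], [0, 5, 0, 5], [1, 0, 1, 0, 1, 0], [1, 1], [1, 2, 1, 2, 1, 2], [1, 3, 1, 3], [1, 4, 1, 4], [1, 5, 1, 5], [2, 0, 2, 0], [2, 1, 2, 1, 2, 1], [2, 2], [2, 3, 2, 3, 2, 3], [2, 4, 2, 4], [2, 5, 2, 5], [3, 0, 3, 0], [3, 1, 3, 1], [3, 2, 3, 2, 3, 2], [3, 3], [3, 4, 3, 4, 3, 4], [3, 5, 3, 5], [4, 0, 4, 0], [4, 1, 4, 1], [4, 2, 4, 2], [4, 3, 4, 3, 4, 3], [4, 4], [4, 5, 4, 5, 4, 5],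 [5, 0, 5, 0], [5, 1, 5, 1], [5, 2, 5, 2], [5, 3, 5, 3], [5, 4, 5, 4, 5, 4], [5, 5]]

/-- The words checked on the permutation model. -/
def mwords : List (List ℕ) := [[0, 1, 0, 1, 0, 1], [0, 2, 0, 2], [0, 3, 0, 3], [0, 4, 0, 4], [0, 5, 0, 5], [1, 2, 1, 2, 1, 2], [1, 3, 1, 3], [1, 4, 1, 4], [1, 5, 1, 5], [2, 3, 2, 3, 2, 3], [2, 4, 2, 4], [2, 5, 2, 5], [3, 4, 3, 4, 3, 4], [3, 5, 3, 5], [4, 5, 4, 5, 4, 5]]

/-- The table. -/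
noncomputable def tab : Tab where
  k := 6
  inv := fun c => c
  N := 5040
  n := 5040
  Tmax := 30241
  wn := 13
  mn := 0x1fff
  subs := []
  rot := fun i => rotT.getF i
  ent := fun c i => bget2 entT_0 4 9 28 0xfffffff 511 c i
  cer := fun c i => bget2 cerT_0 2 11 8 0xff 2047 c i
  tau := fun c i => bget2 tauT_0 3 10 13 0x1fff 1023 c i
  lk := fun i => bget lkT_0 14 1 0x1 16383 i
  lc := fun i => bget lcT_0 14 1 0x1 16383 i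
  pn := fun i => bget pnT_0 10 16 0xffff 1023 i
  cls := fun i => bget clsT_0 10 13 0x1fff 1023 i
  rep := fun i => bget repT_0 10 13 0x1fff 1023 i

end Cfsg.Agent.Helper9.TCData.Fi23C4
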